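import Cfsg.Agent.Fg24.SylowCount.Small
import Cfsg.Agent.Fg24.Brauer.Main
import Cfsg.Agent.Fg24.Brauer.General
import Cfsg.Agent.S4700
import Cfsg.Agent.SylowNumber.Induction
import Cfsg.Agent.FusSys.Terminating
import Cfsg.Agent.Thompson.Offender.Action
import Cfsg.Agent.Fusion.SolvablePSolvable
import Cfsg.Agent.Classical.SmallPSL

/-!
`p`-solvability and the number of Sylow subgroups when this is less than `p ^ 2`.
-/

set_option autoImplicit false

open Cfsg

namespace Cfsg.Agent.Fg24.SylowCount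

universe u

variable {p : ℕ} [Fact p.Prime]

/-- An extension of `p`-solvable groups is `p`-solvable. -/
theorem isPSolvable_ext : ∀ (n : ℕ) (G H : Type u) [Group G] [Finite G] [Group H] [Finite H]
    (f : G →* H), Function.Surjective f → Nat.card H = n →
    Cfsg.IsPSolvable p f.ker → Cfsg.IsPSolvable p H → Cfsg.IsPSolvable p G := by
  intro n
  induction n using Nat.strong_induction_on with
  | _ n IH =>
  intro G H _ _ _ _ f hf hn hker hH
  rcases subsingleton_or_nontrivial H with hs | hs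
  · have htop : f.ker = ⊤ := eq_top_iff.2 fun x _ => MonoidHom.mem_ker.2 (Subsingleton.elim _ _)
    exact FusSys.isPSolvable_congr ((MulEquiv.subgroupCongr htop).trans Subgroup.topEquiv) hker
  obtain ⟨M, hMn, hMt, hMi⟩ := FusSys.exists_proper_normal hH
  haveI := hMn
  let K := M.comap f
  haveI : K.Normal := hMn.comap f
  refine FusSys.isPSolvable_of_normal G K ?_ ?_
  · refine IH (Nat.card M) ?_ K M (f.subgroupComap M) ?_ rfl ?_ (Offender.isPSolvable_subgroup hH M)
    · rw [← hn]
      exact lt_of_le_of_ne M.card_le_card_group fun e => hMt (Subgroup.eq_top_of_card_eq M e)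
    · intro x
      obtain ⟨g, hg⟩ := hf x
      exact ⟨⟨g, show f g ∈ M from hg ▸ x.2⟩, Subtype.ext hg⟩
    · have hle : f.ker ≤ K := fun x hx => by
        show f x ∈ M
        rw [MonoidHom.mem_ker.1 hx]; exact one_mem M
      have he : (f.subgroupComap M).ker = f.ker.subgroupOf K := by
        ext x
        rw [MonoidHom.mem_ker, Subgroup.mem_subgroupOf, MonoidHom.mem_ker, Subtype.ext_iff]
        rfl
      rw [he]
      exact FusSys.isPSolvable_congr (Subgroup.subgroupOfEquivOfLe hle).symm hker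
  · rwa [Subgroup.index_comap_of_surjective M hf]

theorem isPSolvable_extension {G : Type u} [Group G] [Finite G] (N : Subgroup G) [N.Normal]
    (hN : Cfsg.IsPSolvable p N) (hQ : Cfsg.IsPSolvable p (G ⧸ N)) : Cfsg.IsPSolvable p G :=
  isPSolvable_ext _ G (G ⧸ N) (QuotientGroup.mk' N) (QuotientGroup.mk'_surjective N) rfl
    (FusSys.isPSolvable_congr (MulEquiv.subgroupCongr (QuotientGroup.ker_mk' N).symm) hN) hQ

/-- The number of Sylow subgroups of a `p`-solvable group is a prime power if less than `p ^ 2`. -/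
theorem prime_power_of_pSolvable {G : Type u} [Group G] [Finite G] (hG : Cfsg.IsPSolvable p G) :
    Nat.card (Sylow p G) % p = 1 ∧
      (Nat.card (Sylow p G) < p ^ 2 → ∃ q k : ℕ, q.Prime ∧ Nat.card (Sylow p G) = q ^ k) := by
  have hp : p.Prime := Fact.out
  refine SylowNumber.sylow_number_induction (fun n => n % p = 1 ∧ (n < p ^ 2 → ∃ q k : ℕ, q.Prime ∧ n = q ^ k))
    (fun H _ => Finite H ∧ Cfsg.IsPSolvable p H)
    ⟨Nat.mod_eq_of_lt hp.one_lt, fun _ => ⟨p, 0, hp, rfl⟩⟩ ?_ ?_ ?_ ?_ ?_ G ⟨inferInstance, hG⟩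
  · intro a b ha hb
    refine ⟨by rw [Nat.mul_mod, ha.1, hb.1, one_mul, Nat.mod_eq_of_lt hp.one_lt], fun hlt => ?_⟩
    rcases Nat.lt_trichotomy a 1 with h | h | h
    · rw [show a = 0 by omega, Nat.zero_mod] at ha; omega
    · subst h; rw [one_mul] at hlt ⊢; exact hb.2 hlt
    rcases Nat.lt_trichotomy b 1 with h' | h' | h'
    · rw [show b = 0 by omega, Nat.zero_mod] at hb; omega
    · subst h'; rw [mul_one] at hlt ⊢; exact ha.2 hlt
    have h1 : ∀ c : ℕ, 1 < c → c % p = 1 → p ≤ c := fun c hc hc1 => by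
      by_contra hcp
      rw [Nat.mod_eq_of_lt (not_le.1 hcp)] at hc1
      omega
    have h2 := Nat.mul_le_mul (h1 a h ha.1) (h1 b h' hb.1)
    rw [← pow_two] at h2
    omega
  · intro r k hr hk hmod
    exact ⟨by rw [show r ^ k % p = 1 % p from hmod, Nat.mod_eq_of_lt hp.one_lt],
      fun _ => ⟨r, k, hr, rfl⟩⟩
  · rintro H _ S ⟨hf, h⟩
    exact ⟨inferInstance, Offender.isPSolvable_subgroup h S⟩
  · rintro H _ S _ ⟨hf, h⟩
    exact ⟨inferInstance, Layer.isPSolvable_of_surjective h (QuotientGroup.mk'_surjective S)⟩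
  · intro H _ _ hs hgood
    haveI := hs
    haveI : Nontrivial H := hs.toNontrivial
    obtain ⟨N, hN, hNt, hi⟩ := FusSys.exists_proper_normal hgood.2
    have hb : N = ⊥ := (IsSimpleGroup.eq_bot_or_eq_top_of_normal N hN).resolve_right hNt
    subst hb
    rw [Subgroup.index_bot] at hi
    suffices hn : ∀ P : Sylow p H, (P : Subgroup H).Normal by
      obtain ⟨P⟩ : Nonempty (Sylow p H) := inferInstance
      haveI := hn P
      rw [show Nat.card (Sylow p H) = 1 from P.card_eq_index_normalizer.trans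
        (Subgroup.index_eq_one.2 (Subgroup.normalizer_eq_top_iff.2 (hn P)))]
      exact ⟨Nat.mod_eq_of_lt hp.one_lt, fun _ => ⟨p, 0, hp, rfl⟩⟩
    intro P
    have hc := P.card_eq_multiplicity
    rcases hi with ⟨m, hm⟩ | hcop
    · rw [hm, hp.factorization_pow, Finsupp.single_eq_same, ← hm] at hc
      rw [Subgroup.eq_top_of_card_eq _ hc]; infer_instance
    · rw [Nat.factorization_eq_zero_of_not_dvd (hp.coprime_iff_not_dvd.1 hcop.symm), pow_zero] at hc
      rw [Subgroup.eq_bot_of_card_eq _ hc]; infer_instance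

/-- No integer of the exceptional form is a prime power. -/
theorem not_prime_power {p k h u q e : ℕ} (hq : q.Prime) (hkp : k < p) (hu : 0 < u) (hh : 0 < h)
    (heq : k * (u + 1) = h * u * p + u ^ 2 + u + h) : 1 + k * p ≠ q ^ e := by
  intro hn
  have h1 : h = 1 := by
    have h2 : h * u * p < p * (u + 1) := by
      have h3 : k * (u + 1) < p * (u + 1) := Nat.mul_lt_mul_of_pos_right hkp (by omega)
      omega
    by_contra hne
    have h3 : 2 * u * p ≤ h * u * p := Nat.mul_le_mul_right _ (Nat.mul_le_mul_right _ (by omega))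
    nlinarith
  subst h1
  rw [one_mul] at heq
  have hlt : u ^ 2 + u + 1 < p := by nlinarith
  -- `u + 1` divides `p - 1`
  obtain ⟨t, ht⟩ : ∃ t, p = t * (u + 1) + 1 := by
    have h4 : (u + 1 : ℤ) ∣ (p : ℤ) - 1 := by
      refine ⟨(p : ℤ) + u - k, ?_⟩
      have : (k : ℤ) * (u + 1) = u * p + u ^ 2 + u + 1 := by exact_mod_cast heq
      linear_combination this
    have h5 : (u + 1) ∣ p - 1 := by
      have : ((u + 1 : ℕ) : ℤ) ∣ ((p - 1 : ℕ) : ℤ) := by
        rw [Nat.cast_sub (by omega)]; push_cast; exact h4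
      exact_mod_cast this
    obtain ⟨t, ht⟩ := h5
    exact ⟨t, by rw [mul_comm]; omega⟩
  subst ht
  set A := (u + 1) * (t + 1) + 1 with hA
  set B := u * t + 1 with hB
  have hfac : 1 + k * (t * (u + 1) + 1) = A * B := by
    refine Nat.eq_of_mul_eq_mul_right (by omega : 0 < u + 1) ?_
    rw [add_mul, show k * (t * (u + 1) + 1) * (u + 1) = k * (u + 1) * (t * (u + 1) + 1) by ring, heq,
      hA, hB]
    ring
  rw [hfac] at hn
  obtain ⟨i, hi, hAi⟩ := (Nat.dvd_prime_pow hq).1 (hn ▸ dvd_mul_right A B)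
  obtain ⟨j, hj, hBj⟩ := (Nat.dvd_prime_pow hq).1 (hn ▸ dvd_mul_left B A)
  have hBA : B ≤ A := by
    rw [hA, hB]
    have := Nat.mul_le_mul (Nat.le_succ u) (Nat.le_succ t)
    simp only [Nat.succ_eq_add_one] at this
    omega
  have hdvd : B ∣ A := by
    rw [hBj, hAi]
    refine pow_dvd_pow _ ?_
    rw [hBj, hAi] at hBA
    exact (Nat.pow_le_pow_iff_right hq.one_lt).1 hBA
  have ht0 : t ≠ 0 := by rintro rfl; omega
  have hAB : A = B + (u + 1 + t) := by rw [hA, hB]; ring
  rw [hAB, Nat.dvd_add_right (dvd_refl B)] at hdvd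
  have hle : u * t + 1 ≤ u + 1 + t := hB ▸ Nat.le_of_dvd (by omega) hdvd
  -- `(u - 1) (t - 1) ≤ 1` against `u ^ 2 + u < t (u + 1)`
  have hu1 : u ^ 2 + u < t * (u + 1) := by omega
  have htu : u < t := by nlinarith
  rcases Nat.lt_or_ge u 2 with hu2 | hu2
  · have hu' : u = 1 := by omega
    subst hu'
    simp only [hB, one_mul] at hdvd
    rw [show 1 + 1 + t = (t + 1) + 1 by ring, Nat.dvd_add_right (dvd_refl _), Nat.dvd_one] at hdvd
    omega
  · nlinarith

/-- A group whose number of Sylow subgroups is a prime power less than `p ^ 2` is `p`-solvable. -/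
theorem pSolvable_of_prime_power (hexc : ¬ (3 < p ∧ ∃ k : ℕ, p + 1 = 2 ^ k)) :
    ∀ (c : ℕ) (G : Type u) [Group G] [Finite G], Nat.card G = c → Nat.card (Sylow p G) < p ^ 2 →
      (∃ q k : ℕ, q.Prime ∧ Nat.card (Sylow p G) = q ^ k) → Cfsg.IsPSolvable p G := by
  have hp : p.Prime := Fact.out
  intro c
  induction c using Nat.strong_induction_on with
  | _ c IH =>
  intro G _ _ hc hlt ⟨q, k, hq, hqk⟩
  rcases subsingleton_or_nontrivial G with hs | hs
  · exact FusSys.isPSolvable_of_subsingleton G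
  by_cases hsi : IsSimpleGroup G
  swap
  · obtain ⟨K, hKn, hKb, hKt⟩ : ∃ K : Subgroup G, K.Normal ∧ K ≠ ⊥ ∧ K ≠ ⊤ := by
      by_contra hcon
      push Not at hcon
      exact hsi ⟨fun K hK => or_iff_not_imp_left.mpr (hcon K hK)⟩
    haveI := hKn
    obtain ⟨P⟩ : Nonempty (Sylow p G) := inferInstance
    have h1 := SylowNumber.card_sylow_eq_mul P K
    rw [SylowNumber.relIndex_normalizer_split P K rfl] at h1
    have key : ∀ d, d ∣ Nat.card (Sylow p G) → d < p ^ 2 ∧ ∃ q k : ℕ, q.Prime ∧ d = q ^ k := fun d hd => by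
      refine ⟨lt_of_le_of_lt (Nat.le_of_dvd Nat.card_pos hd) hlt, ?_⟩
      obtain ⟨i, -, hi⟩ := (Nat.dvd_prime_pow hq).1 (hqk ▸ hd)
      exact ⟨q, i, hq, hi⟩
    obtain ⟨q1, q2⟩ := key (Nat.card (Sylow p (G ⧸ K))) (h1 ▸ dvd_mul_right _ _)
    obtain ⟨k1, k2⟩ := key (Nat.card (Sylow p K)) (h1 ▸ (dvd_mul_right _ _).trans (dvd_mul_left _ _))
    refine isPSolvable_extension K (IH _ ?_ K rfl k1 k2) (IH _ ?_ (G ⧸ K) rfl q1 q2)
    · rw [← hc]
      exact lt_of_le_of_ne K.card_le_card_group fun e => hKt (Subgroup.eq_top_of_card_eq K e)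
    · rw [← hc]; exact Core.card_quotient_lt hKb
  haveI := hsi
  by_cases hdvd : p ∣ Nat.card G
  swap
  · exact FusSys.isPSolvable_of_normal G ⊥ (FusSys.isPSolvable_of_subsingleton _)
      (Or.inr (by rw [Subgroup.index_bot]; exact (hp.coprime_iff_not_dvd.2 hdvd).symm))
  by_cases hcomm : IsMulCommutative G
  · haveI : Group.IsSolvable G := Group.isSolvable_of_comm fun a b => hcomm.is_comm.comm a b
    exact Fusion.isPSolvable_of_isSolvable G (p := p)
  exfalso
  have hperf : commutator G = ⊤ := by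
    refine (IsSimpleGroup.eq_bot_or_eq_top_of_normal (commutator G) inferInstance).resolve_left fun h => hcomm ⟨⟨fun a b => ?_⟩⟩
    have h1 := (Subgroup.eq_bot_iff_forall _).1 h _
      (Subgroup.commutator_mem_commutator (Subgroup.mem_top a) (Subgroup.mem_top b))
    exact commutatorElement_eq_one_iff_mul_comm.1 h1
  obtain ⟨P⟩ : Nonempty (Sylow p G) := inferInstance
  have hP := card_eq_prime hcomm hdvd hlt P
  set n := Nat.card (Sylow p G) with hn
  have hn1 : n % p = 1 := by rw [hn, card_sylow_modEq_one p G, Nat.mod_eq_of_lt hp.one_lt]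
  have hnk : n = 1 + n / p * p := by
    have := Nat.div_add_mod n p
    rw [mul_comm]; omega
  have hkp : n / p < p := by
    rw [Nat.div_lt_iff_lt_mul hp.pos, ← pow_two]; exact hlt
  have hn2 : n ≠ 1 := by
    intro h
    have h1 : (P : Subgroup G).Normal := Subgroup.normalizer_eq_top_iff.1
      (Subgroup.index_eq_one.1 (P.card_eq_index_normalizer.symm.trans h))
    rcases IsSimpleGroup.eq_bot_or_eq_top_of_normal _ h1 with h2 | h2
    · rw [h2, Subgroup.card_bot] at hP; exact hp.ne_one hP.symm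
    · haveI := isCyclic_of_prime_card (p := p) (α := G)
        (by rw [← Subgroup.card_top (G := G), ← h2, hP])
      exact hcomm ⟨⟨IsCyclic.commGroup.mul_comm⟩⟩
  -- the index of the Sylow subgroup in its normalizer
  have hmul := SmallOrder.card_sylow_mul_card_normalizer P
  rw [← hn] at hmul
  obtain ⟨t, ht⟩ : p ∣ Nat.card (Subgroup.normalizer ((P : Subgroup G) : Set G)) := by
    have h := Subgroup.card_dvd_of_le (Subgroup.le_normalizer (H := (P : Subgroup G)))
    rwa [hP] at h
  rw [ht] at hmul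
  have e : G ⧸ Cfsg.pPrimeCore p G ≃* G := by
    have hb : Cfsg.pPrimeCore p G = ⊥ :=
      (IsSimpleGroup.eq_bot_or_eq_top_of_normal _ inferInstance).resolve_right fun h => by
        have h1 : ¬ p ∣ Nat.card (Cfsg.pPrimeCore p G) := Core.not_dvd_card_pPrimeCore
        rw [h, Subgroup.card_top] at h1
        exact h1 hdvd
    exact (QuotientGroup.quotientMulEquivOfEq hb).trans QuotientGroup.quotientBot
  rcases S4700.result hperf p P hP (n / p) hnk with ⟨F, iF, iF', hF, hp3, ⟨eF⟩⟩ | ⟨m, F, iF, iF', hF, hpm, hp3, ⟨eF⟩⟩ | ⟨h, u, hh, hu, heq⟩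
  · have hG : Nat.card G = Nat.card (Matrix.ProjectiveSpecialLinearGroup (Fin 2) F) :=
      Nat.card_congr (e.symm.trans eF).toEquiv
    have h1 := Classical.card_sl_mul (F := F) hF 2 (by norm_num)
    have h3 := Classical.card_psl_mul (F := F) (ι := Fin 2)
    have hodd : p % 2 = 1 := hp.eq_two_or_odd.resolve_left (by omega)
    rw [Fintype.card_fin, hF, Nat.gcd_eq_left (by omega : 2 ∣ p - 1), ← hG, ← hmul] at h3
    rw [← h3, Fin.prod_univ_two] at h1
    simp only [Fin.val_zero, Fin.val_one, pow_zero, pow_one] at h1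
    -- `2 n t = p ^ 2 - 1`
    have h4 : 2 * (n * t) + 1 = p * p := by
      have h5 : (p - 1) * (p * (2 * (n * t) + 1)) = (p - 1) * (p * (p * p)) := by
        have h6 : (p ^ 2 - 1) * (p ^ 2 - p) + (p - 1) * p = (p - 1) * (p * (p * p)) := by
          have : 1 ≤ p ^ 2 := Nat.one_le_pow _ _ hp.pos
          have : p ≤ p ^ 2 := Nat.le_self_pow two_ne_zero p
          zify [*, hp.one_le]
          ring
        rw [← h6, ← h1]; ring
      exact Nat.eq_of_mul_eq_mul_left hp.pos (Nat.eq_of_mul_eq_mul_left (by omega) h5)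
    have h5 : p ∣ 2 * t + 1 := by
      have h6 : p ∣ 2 * (n * t) + 1 := h4 ▸ dvd_mul_right p p
      rw [hnk, show 2 * ((1 + n / p * p) * t) + 1 = p * (2 * (n / p) * t) + (2 * t + 1) by ring] at h6
      exact (Nat.dvd_add_right (dvd_mul_right _ _)).1 h6
    have h7 : n ≤ p + 1 := by
      by_contra hcon
      have h8 := Nat.le_of_dvd (by omega) h5
      have h9 : (p + 2) * (2 * t) ≤ n * (2 * t) := Nat.mul_le_mul_right _ (by omega)
      nlinarith
    have h8 : n = p + 1 := by
      rcases Nat.eq_zero_or_pos (n / p) with h | h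
      · rw [h] at hnk; omega
      · rcases Nat.lt_or_ge (n / p) 2 with h' | h'
        · rw [show n / p = 1 by omega] at hnk; omega
        · have := Nat.mul_le_mul_right p h'
          omega
    rw [h8] at hqk
    have hq2 : q = 2 := by
      have h9 : 2 ∣ q ^ k := hqk ▸ (by omega : 2 ∣ p + 1)
      exact ((Nat.prime_dvd_prime_iff_eq Nat.prime_two hq).1 (Nat.prime_two.dvd_of_dvd_pow h9)).symm
    subst hq2
    exact hexc ⟨hp3, k, hqk⟩
  · have hG : Nat.card G = Nat.card (Matrix.SpecialLinearGroup (Fin 2) F) :=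
      Nat.card_congr (e.symm.trans eF).toEquiv
    have h1 := Classical.card_sl_mul (F := F) hF 2 (by norm_num)
    rw [← hG, ← hmul, Fin.prod_univ_two] at h1
    simp only [Fin.val_zero, Fin.val_one, pow_zero, pow_one] at h1
    set r := 2 ^ m with hr
    clear_value r
    have hr4 : 4 ≤ r := by
      rcases Nat.lt_or_ge m 2 with h | h
      · interval_cases m <;> omega
      · calc 4 = 2 ^ 2 := rfl
          _ ≤ r := hr.symm ▸ Nat.pow_le_pow_right two_pos h
    -- `n t = r (r - 1)`
    have h4 : n * t + r = r * r := by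
      have h5 : (r - 1) * (p * (n * t + r)) = (r - 1) * (p * (r * r)) := by
        have h6 : (r ^ 2 - 1) * (r ^ 2 - r) + (r - 1) * p * r = (r - 1) * (p * (r * r)) := by
          have a1 : 1 ≤ r ^ 2 := Nat.one_le_pow _ _ (by omega)
          have a2 : r ≤ r ^ 2 := Nat.le_self_pow two_ne_zero r
          have a3 : 1 ≤ r := by omega
          rw [hpm]
          zify [a1, a2, a3]
          ring
        rw [← h6, ← h1]; ring
      exact Nat.eq_of_mul_eq_mul_left hp.pos (Nat.eq_of_mul_eq_mul_left (by omega) h5)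
    have h5 : t = 2 := by
      have h6 : ((p : ℤ)) ∣ (t : ℤ) - 2 := by
        obtain ⟨a, ha⟩ : ∃ a, n = 1 + a * p := ⟨_, hnk⟩
        refine ⟨(r : ℤ) - 2 - (a : ℤ) * t, ?_⟩
        have e1 : ((n * t + r : ℕ) : ℤ) = ((r * r : ℕ) : ℤ) := by exact_mod_cast h4
        rw [ha] at e1
        have e2 : (p : ℤ) = (r : ℤ) + 1 := by exact_mod_cast hpm
        push_cast at e1
        rw [e2] at e1 ⊢
        linear_combination e1
      rcases Nat.lt_or_ge t (p + 2) with h | h
      · obtain ⟨c, hc⟩ := h6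
        have ht0 : t ≠ 0 := by rintro rfl; rw [mul_zero] at h4; nlinarith
        rcases lt_trichotomy c 0 with hc0 | hc0 | hc0
        · have : (p : ℤ) * c ≤ (p : ℤ) * (-1) := mul_le_mul_of_nonneg_left (by omega) (by omega)
          omega
        · subst hc0; omega
        · have : (p : ℤ) * 1 ≤ (p : ℤ) * c := mul_le_mul_of_nonneg_left (by omega) (by omega)
          omega
      · exfalso
        have h7 : 1 + 1 * p ≤ n := by
          rcases Nat.eq_zero_or_pos (n / p) with h | h
          · rw [h] at hnk; omega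
          · have := Nat.mul_le_mul_right p h
            omega
        have h8 := Nat.mul_le_mul h7 h
        nlinarith
    subst h5
    have h6 : n * 2 = r * (r - 1) := by
      rw [Nat.mul_sub, mul_one]; omega
    obtain ⟨j, -, hj⟩ := (Nat.dvd_prime_pow hq).1 (show 2 ^ (m - 1) ∣ q ^ k by
      rw [← hqk]
      refine ⟨r - 1, Nat.eq_of_mul_eq_mul_right two_pos ?_⟩
      rw [h6, mul_right_comm, ← pow_succ, Nat.sub_add_cancel (by rcases m with _ | m <;> [simp [hr] at hr4; omega]), hr])
    have hm1 : 1 ≤ m - 1 := by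
      rcases Nat.lt_or_ge m 2 with h | h
      · interval_cases m <;> omega
      · omega
    have hq2 : q = 2 := by
      have h9 : 2 ∣ q ^ j := hj ▸ dvd_pow_self 2 (by omega)
      exact ((Nat.prime_dvd_prime_iff_eq Nat.prime_two hq).1 (Nat.prime_two.dvd_of_dvd_pow h9)).symm
    subst hq2
    -- the odd factor `r - 1 > 1` divides `n`
    have hodd : (r - 1).Coprime 2 := Nat.coprime_two_right.2 ⟨(r - 2) / 2, by
      have : 2 ∣ r := hr ▸ dvd_pow_self 2 (by omega)
      omega⟩
    have h7 : r - 1 ∣ 2 ^ k := hqk ▸ hodd.dvd_of_dvd_mul_right (h6 ▸ dvd_mul_left _ _)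
    have := (hodd.pow_right k).eq_one_of_dvd h7
    omega
  · exact not_prime_power hq hkp hu hh heq (hnk.symm.trans hqk)

end Cfsg.Agent.Fg24.SylowCount
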