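import Mathlib

/-!
Few Sylow subgroups force a Sylow subgroup of prime order in a simple group.
-/

set_option autoImplicit false

namespace Cfsg.Agent.Fg24.SylowCount

open scoped Classical

variable {G : Type*} [Group G] [Finite G] {p : ℕ} [Fact p.Prime]

/-- Conjugation by `P` on a Sylow subgroup: the orbit and the intersection with `P`. -/
theorem fibre (hsmall : Nat.card (Sylow p G) < p ^ 2) (P Q : Sylow p G) (hne : P ≠ Q) :
    ((P : Subgroup G) ⊓ (Q : Subgroup G)).relIndex (P : Subgroup G) = p ∧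
      ∃ S : Finset (Sylow p G), S.card = p ∧
        ∀ R ∈ S, R ≠ P ∧ (P : Subgroup G) ⊓ (R : Subgroup G) = (P : Subgroup G) ⊓ (Q : Subgroup G) := by
  have hp : p.Prime := Fact.out
  set D := (P : Subgroup G) ⊓ (Q : Subgroup G) with hD
  have hst : MulAction.stabilizer (↥(P : Subgroup G)) Q = D.subgroupOf (P : Subgroup G) := by
    ext x
    rw [MulAction.mem_stabilizer_iff, Subgroup.mem_subgroupOf, hD, ← P.2.inf_normalizer_sylow Q,
      Subgroup.mem_inf, ← Sylow.smul_eq_iff_mem_normalizer]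
    exact ⟨fun h => ⟨x.2, h⟩, fun h => h.2⟩
  have hcard : Nat.card (MulAction.orbit (↥(P : Subgroup G)) Q) = D.relIndex (P : Subgroup G) := by
    rw [Nat.card_congr (MulAction.orbitEquivQuotientStabilizer _ Q), ← Subgroup.index_eq_card, hst]
    rfl
  obtain ⟨a, ha⟩ := IsPGroup.iff_card.1 P.2
  have hdvd : D.relIndex (P : Subgroup G) ∣ p ^ a := by
    rw [← ha]; exact Subgroup.relIndex_dvd_card _ _
  obtain ⟨j, hja, hj⟩ := (Nat.dvd_prime_pow hp).1 hdvd
  have hlt : D.relIndex (P : Subgroup G) < p ^ 2 := by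
    rw [← hcard]
    exact lt_of_le_of_lt (Nat.card_le_card_of_injective _ Subtype.val_injective) hsmall
  have hj0 : j ≠ 0 := by
    intro h
    rw [h, pow_zero, Subgroup.relIndex_eq_one] at hj
    exact hne (Sylow.ext (P.3 Q.2 (hj.trans inf_le_right))).symm
  have hj2 : j < 2 := by
    rw [hj] at hlt
    exact (Nat.pow_lt_pow_iff_right hp.one_lt).1 hlt
  have hrel : D.relIndex (P : Subgroup G) = p := by
    rw [hj, show j = 1 by omega, pow_one]
  refine ⟨hrel, ?_⟩
  have hn : (D.subgroupOf (P : Subgroup G)).Normal := by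
    refine Subgroup.normal_of_index_eq_minFac_card ?_
    rw [ha, hp.pow_minFac (by omega)]
    exact hrel
  haveI := Fintype.ofFinite (MulAction.orbit (↥(P : Subgroup G)) Q)
  refine ⟨Set.toFinset (MulAction.orbit (↥(P : Subgroup G)) Q), ?_, fun R hR => ?_⟩
  · rw [← Nat.card_eq_card_toFinset, hcard, hrel]
  rw [Set.mem_toFinset] at hR
  obtain ⟨x, rfl⟩ := hR
  have hP : (x : G) • P = P := Sylow.smul_eq_iff_mem_normalizer.2 (Subgroup.le_normalizer x.2)
  refine ⟨fun h => hne ?_, ?_⟩
  · have h1 : (x : G) • Q = (x : G) • P := h.trans hP.symm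
    exact (smul_left_cancel _ h1).symm
  · ext y
    have hmem : ∀ (z : G) (T : Sylow p G),
        z ∈ (((x : G) • T : Sylow p G) : Subgroup G) ↔ (x : G)⁻¹ * z * x ∈ (T : Subgroup G) := by
      intro z T
      rw [Sylow.coe_subgroup_smul, Subgroup.mem_pointwise_smul_iff_inv_smul_mem, MulAut.smul_def,
        MulAut.inv_def, MulAut.conj_symm_apply]
    constructor
    · rintro ⟨h1, h2⟩
      have h3 : (x : G)⁻¹ * y * x ∈ D :=
        ⟨(P : Subgroup G).mul_mem ((P : Subgroup G).mul_mem ((P : Subgroup G).inv_mem x.2) h1) x.2, (hmem y Q).1 h2⟩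
      have h4 := hn.conj_mem ⟨_, h3.1⟩ h3 x
      simpa [Subgroup.mem_subgroupOf, mul_assoc] using h4
    · intro h
      refine ⟨h.1, (hmem y Q).2 ?_⟩
      have h4 := hn.conj_mem ⟨_, h.1⟩ h x⁻¹
      rw [Subgroup.mem_subgroupOf] at h4
      have h5 := h4.2
      simp only [Subgroup.coe_mul, InvMemClass.coe_inv, inv_inv] at h5
      exact h5

/-- In a nonabelian simple group with fewer than `p ^ 2` Sylow subgroups these have order `p`. -/
theorem card_eq_prime [IsSimpleGroup G] (hnc : ¬ IsMulCommutative G) (hdvd : p ∣ Nat.card G)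
    (hsmall : Nat.card (Sylow p G) < p ^ 2) (P : Sylow p G) : Nat.card (P : Subgroup G) = p := by
  have hp : p.Prime := Fact.out
  have hnn : ∀ (A : Sylow p G) (N : Subgroup G), N.Normal → N ≤ (A : Subgroup G) → N = ⊥ := by
    intro A N hN hle
    refine (IsSimpleGroup.eq_bot_or_eq_top_of_normal N hN).resolve_right fun h => ?_
    subst h
    have h1 : IsPGroup p G :=
      (A.2.to_le hle).of_equiv (Subgroup.topEquiv : (⊤ : Subgroup G) ≃* G)
    haveI := h1.center_nontrivial
    rcases IsSimpleGroup.eq_bot_or_eq_top_of_normal (Subgroup.center G) inferInstance with h2 | h2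
    · exact (Subgroup.nontrivial_iff_ne_bot _).1 inferInstance h2
    · exact hnc ⟨⟨fun a b => (Subgroup.mem_center_iff.1 (h2 ▸ Subgroup.mem_top b)) a⟩⟩
  obtain ⟨a, ha⟩ := IsPGroup.iff_card.1 P.2
  have ha0 : a ≠ 0 := by
    rintro rfl
    have h1 := P.dvd_card_of_dvd_card hdvd
    rw [ha, pow_zero] at h1
    exact hp.not_dvd_one h1
  have hcardeq : ∀ A : Sylow p G, Nat.card (A : Subgroup G) = p ^ a := fun A => by
    rw [← ha]; exact Sylow.card_eq_multiplicity A |>.trans (P.card_eq_multiplicity).symm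
  by_contra hne
  have ha2 : 2 ≤ a := by
    by_contra h
    exact hne (by rw [ha, show a = 1 by omega, pow_one])
  obtain ⟨Q, hQ⟩ : ∃ Q : Sylow p G, Q ≠ P := by
    by_contra! h
    have hn : (P : Subgroup G).Normal := by
      refine Subgroup.normalizer_eq_top_iff.1 ?_
      rw [eq_top_iff]
      exact fun g _ => Sylow.smul_eq_iff_mem_normalizer.1 (h _)
    have := hnn P _ hn le_rfl
    exact (P.ne_bot_of_dvd_card hdvd) this
  set D := (P : Subgroup G) ⊓ (Q : Subgroup G)
  obtain ⟨hD, -⟩ := fibre hsmall P Q hQ.symm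
  have hDc : ∀ A B : Sylow p G, A ≠ B →
      Nat.card ((A : Subgroup G) ⊓ (B : Subgroup G) : Subgroup G) * p = p ^ a := fun A B hAB => by
    rw [← hcardeq A, ← Subgroup.relIndex_bot_left, ← Subgroup.relIndex_bot_left]
    have h1 := Subgroup.relIndex_mul_relIndex ⊥ ((A : Subgroup G) ⊓ (B : Subgroup G))
      (A : Subgroup G) bot_le inf_le_left
    rwa [(fibre hsmall A B hAB).1] at h1
  have huniq : ∀ A B : Sylow p G, A ≠ B → ∀ E : Subgroup G, E ≤ (A : Subgroup G) → E ≤ (B : Subgroup G) →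
      Nat.card E * p = p ^ a → (A : Subgroup G) ⊓ (B : Subgroup G) = E := fun A B hAB E hA hB hE =>
    (Subgroup.eq_of_le_of_card_ge (le_inf hA hB)
      (Nat.le_of_mul_le_mul_right ((hDc A B hAB).trans hE.symm).le hp.pos)).symm
  obtain ⟨R, hRP, hR⟩ : ∃ R : Sylow p G, R ≠ P ∧ (P : Subgroup G) ⊓ (R : Subgroup G) ≠ D := by
    by_contra! h
    let K : Subgroup G := ⨅ A : Sylow p G, (A : Subgroup G)
    have hK : K.Normal := by
      refine ⟨fun x hx g => Subgroup.mem_iInf.2 fun A => ?_⟩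
      have h1 := Subgroup.mem_iInf.1 hx (g⁻¹ • A)
      rw [Sylow.coe_subgroup_smul, Subgroup.mem_pointwise_smul_iff_inv_smul_mem] at h1
      simpa [MulAut.smul_def, mul_assoc] using h1
    have hDK : D ≤ K := le_iInf fun A => by
      rcases eq_or_ne A P with rfl | hA
      · exact inf_le_left
      · rw [← h A hA]; exact inf_le_right
    have h1 := le_bot_iff.1 (hDK.trans (hnn P K hK (iInf_le _ P)).le)
    have h2 := hDc P Q hQ.symm
    rw [show (P : Subgroup G) ⊓ (Q : Subgroup G) = ⊥ from h1, Subgroup.card_bot, one_mul] at h2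
    have := Nat.pow_right_injective hp.two_le (h2.symm.trans (pow_one p).symm)
    omega
  set D2 := (P : Subgroup G) ⊓ (R : Subgroup G)
  obtain ⟨-, S, hS, hSR⟩ := fibre hsmall P R hRP.symm
  have hQR : ∀ R' ∈ S, Q ≠ R' := fun R' hR' h => hR (h ▸ (hSR R' hR').2).symm
  -- the intersections with `Q`
  let T : Finset (Subgroup G) := insert D (S.image fun R' : Sylow p G => (Q : Subgroup G) ⊓ (R' : Subgroup G))
  have hDnot : D ∉ S.image fun R' : Sylow p G => (Q : Subgroup G) ⊓ (R' : Subgroup G) := by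
    intro h
    obtain ⟨R', hR', he⟩ := Finset.mem_image.1 h
    refine hR ?_
    change (P : Subgroup G) ⊓ (R : Subgroup G) = D
    rw [← (hSR R' hR').2]
    exact huniq P R' (hSR R' hR').1.symm D inf_le_left (he ▸ inf_le_right) (hDc P Q hQ.symm)
  have hinj : Set.InjOn (fun R' : Sylow p G => (Q : Subgroup G) ⊓ (R' : Subgroup G)) S := by
    intro R' hR' R'' hR'' he
    by_contra hne'
    simp only at he
    have h1 := hSR R' hR'
    have h2 := hSR R'' hR''
    have e1 : (R' : Subgroup G) ⊓ (R'' : Subgroup G) = D2 :=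
      huniq _ _ hne' D2 (h1.2.symm.le.trans inf_le_right) (h2.2.symm.le.trans inf_le_right) (hDc P R hRP.symm)
    have e2 : (R' : Subgroup G) ⊓ (R'' : Subgroup G) = (Q : Subgroup G) ⊓ (R' : Subgroup G) :=
      huniq _ _ hne' _ inf_le_right (he ▸ inf_le_right) (hDc _ _ (hQR R' hR'))
    have e3 : D2 ≤ (Q : Subgroup G) := by rw [← e1, e2]; exact inf_le_left
    exact hR (huniq P Q hQ.symm D2 inf_le_left e3 (hDc P R hRP.symm)).symm
  have hTc : T.card = p + 1 := by
    rw [Finset.card_insert_of_notMem hDnot, Finset.card_image_of_injOn hinj, hS]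
  have hfib : ∀ E ∈ T, ∃ F : Finset (Sylow p G), F.card = p ∧
      ∀ A ∈ F, A ≠ Q ∧ (Q : Subgroup G) ⊓ (A : Subgroup G) = E := by
    intro E hE
    rcases Finset.mem_insert.1 hE with rfl | hE
    · obtain ⟨-, F, hF, hFA⟩ := fibre hsmall Q P hQ
      exact ⟨F, hF, fun A hA => ⟨(hFA A hA).1, (hFA A hA).2.trans (inf_comm _ _)⟩⟩
    · obtain ⟨R', hR', rfl⟩ := Finset.mem_image.1 hE
      exact (fibre hsmall Q R' (hQR R' hR')).2
  choose F hF hFA using hfib
  haveI := Fintype.ofFinite (Sylow p G)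
  have hdisj : (T.attach : Set {E // E ∈ T}).PairwiseDisjoint fun E => F E.1 E.2 := by
    intro E _ E' _ hEE
    simp only [Function.onFun, Finset.disjoint_left]
    intro A hA hA'
    exact hEE (Subtype.ext ((hFA _ _ A hA).2.symm.trans (hFA _ _ A hA').2))
  have h1 := Finset.card_le_univ (T.attach.biUnion fun E => F E.1 E.2)
  rw [Finset.card_biUnion hdisj, Finset.sum_congr rfl (fun E _ => hF E.1 E.2), Finset.sum_const,
    Finset.card_attach, hTc, smul_eq_mul, ← Nat.card_eq_fintype_card] at h1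
  nlinarith

end Cfsg.Agent.Fg24.SylowCount
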